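import Groth.Agent.CohqB.QC4
import Groth.Agent.Sga67.QCohEpi
import Groth.Agent.Dcoh.PushFLF304
import Groth.Agent.PerfA.CohSerre
import Groth.Agent.CohqB.FiniteType2
import Mathlib.RingTheory.Regular.ProjectiveDimension
import Mathlib.Algebra.Homology.ShortComplex.ModuleCat

/-!
# Local projective dimension of coherent modules

`PdLE n M`: every point has an affine open neighbourhood `U` such that `Γ(M, U)` has projective dimension `≤ n` over
`Γ(Y, U)`.

* `isFinLocFree_of_pdLE_zero`, `pdLE_of_isFinLocFree`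
* `pdLE_kernel`: the kernel of `E → M`, `E` finite locally free, has smaller dimension.
-/

set_option autoImplicit false

universe u

open CategoryTheory CategoryTheory.Limits AlgebraicGeometry Opposite TopologicalSpace

namespace Groth.Agent.Krr.H498.PdSec

variable {Y : Scheme.{u}}

/-- Sections over `U` as a `Γ(Y, U)`-module. -/
noncomputable abbrev secMod (M : Y.Modules) (U : Y.Opens) : ModuleCat.{u} Γ(Y, U) :=
  ModuleCat.of Γ(Y, U) Γ(M, U)

/-- The map on sections. -/
noncomputable def secMap {M N : Y.Modules} (φ : M ⟶ N) (U : Y.Opens) : Γ(M, U) →ₗ[Γ(Y, U)] Γ(N, U) where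
  toFun := φ.app U
  map_add' := map_add _
  map_smul' r x := φ.app_smul r x

theorem secMap_apply {M N : Y.Modules} (φ : M ⟶ N) (U : Y.Opens) (x : Γ(M, U)) :
    secMap φ U x = φ.app U x := rfl

/-- Sections over an affine open of a short exact sequence of quasi-coherent modules. -/
theorem shortExact_sec {S : ShortComplex Y.Modules} (hS : S.ShortExact) (h₂ : Coh.IsQCoh S.X₂)
    (h₃ : Coh.IsQCoh S.X₃) {U : Y.Opens} (hU : IsAffineOpen U) :
    ∃ w, (ShortComplex.mk (X₁ := secMod S.X₁ U) (X₂ := secMod S.X₂ U) (X₃ := secMod S.X₃ U)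
      (ModuleCat.ofHom (secMap S.f U)) (ModuleCat.ofHom (secMap S.g U)) w).ShortExact := by
  have hm := hS.mono_f
  have he := hS.epi_g
  refine ⟨?_, ?_⟩
  · ext x
    exact CohqB.QC4.app_comp_eq_zero U x
  · refine { exact := ?_, mono_f := ?_, epi_g := ?_ }
    · rw [ShortComplex.moduleCat_exact_iff]
      intro x hx
      exact CohqB.QC4.exists_of_exact hS.exact U x hx
    · rw [ModuleCat.mono_iff_injective]
      exact CohqB.QC4.app_injective_of_mono S.f U
    · rw [ModuleCat.epi_iff_surjective]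
      exact Sga67.QCohEpi.app_surjective S.g h₂ h₃ hU

/-- Sections of a finite locally free module over affine opens are finite projective. -/
theorem finProj_sections {E : Y.Modules} (hE : FlatMod.IsFinLocFree E) {U : Y.Opens} (hU : IsAffineOpen U) :
    Module.Finite Γ(Y, U) Γ(E, U) ∧ Module.Projective Γ(Y, U) Γ(E, U) := by
  have hq : Coh.IsQCoh E := (PerfA.CohSerre.isCoh_of_isFinLocFree hE).1
  have hcov : ∀ x : Y, ∃ V : Y.Opens, True ∧ IsAffineOpen V ∧ x ∈ V := fun x => by
    obtain ⟨V, hV, hx, -⟩ := exists_isAffineOpen_mem_and_subset (x := x) (U := ⊤) trivial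
    exact ⟨V, trivial, hV, hx⟩
  obtain ⟨h1, h2⟩ := (Desc.FinLocFreeSections.isFinLocFree_iff_of_cover hq (fun _ => True) hcov).1 hE U trivial hU
  exact ⟨inferInstance, Module.Flat.projective_of_finitePresentation⟩

/-- Locally of projective dimension at most `n`. -/
def PdLE (n : ℕ) (M : Y.Modules) : Prop :=
  ∀ y : Y, ∃ U : Y.Opens, IsAffineOpen U ∧ y ∈ U ∧ HasProjectiveDimensionLE (secMod M U) n

theorem PdLE.mono {n m : ℕ} {M : Y.Modules} (h : PdLE n M) (hnm : n ≤ m) : PdLE m M := by
  intro y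
  obtain ⟨U, hU, hy, h1⟩ := h y
  exact ⟨U, hU, hy, hasProjectiveDimensionLT_of_ge _ (n + 1) (m + 1) (Nat.succ_le_succ hnm)⟩

theorem pdLE_of_isFinLocFree {E : Y.Modules} (hE : FlatMod.IsFinLocFree E) : PdLE 0 E := by
  intro y
  obtain ⟨V, hV, hx, -⟩ := exists_isAffineOpen_mem_and_subset (x := y) (U := ⊤) trivial
  refine ⟨V, hV, hx, ?_⟩
  have h := (finProj_sections hE hV).2
  rw [← projective_iff_hasProjectiveDimensionLE_zero, ← IsProjective.iff_projective]
  exact h

theorem isFinLocFree_of_pdLE_zero {M : Y.Modules} (hM : Coh.IsCoh M) (h : PdLE 0 M) : FlatMod.IsFinLocFree M := by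
  refine Dcoh.PushFLF304.isFinLocFree_of_sections hM.1
    (fun U => HasProjectiveDimensionLE (secMod M U) 0) ?_ ?_
  · intro y
    obtain ⟨U, hU, hy, h1⟩ := h y
    exact ⟨U, h1, hU, hy⟩
  · intro V hV hVa
    have : Coh.IsQCoh M := hM.1
    refine ⟨CohqB.FiniteType2.finite_sections_of_isFT M hM.2 hVa, ?_⟩
    have h1 : Projective (secMod M V) := (projective_iff_hasProjectiveDimensionLE_zero _).2 hV
    exact (IsProjective.iff_projective _).2 h1

/-- The kernel of a surjection from a finite locally free module. -/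
theorem pdLE_kernel {S : ShortComplex Y.Modules} (hS : S.ShortExact) (h₂ : FlatMod.IsFinLocFree S.X₂)
    (h₃ : Coh.IsQCoh S.X₃) {n : ℕ} (h : PdLE (n + 1) S.X₃) : PdLE n S.X₁ := by
  intro y
  obtain ⟨U, hU, hy, h1⟩ := h y
  refine ⟨U, hU, hy, ?_⟩
  obtain ⟨w, hw⟩ := shortExact_sec hS (PerfA.CohSerre.isCoh_of_isFinLocFree h₂).1 h₃ hU
  have h2 : Projective (secMod S.X₂ U) := (IsProjective.iff_projective _).1 (finProj_sections h₂ hU).2
  exact (hw.hasProjectiveDimensionLT_X₃_iff n h2).1 h1

end Groth.Agent.Krr.H498.PdSec
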