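import Groth.Agent.Krr.H498.PdAlg
import Groth.Agent.Krr.H498.PdSec
import Groth.Prelude.Def_Mor2

/-!
# Direct images along regular closed immersions have locally finite projective dimension
-/

set_option autoImplicit false

universe u

open CategoryTheory CategoryTheory.Limits AlgebraicGeometry Opposite TopologicalSpace

namespace Groth.Agent.Krr.H498.RegPush

open Groth.Agent.Krr.H498.PdSec Groth.Agent.Krr.H498.PdAlg

variable {X Y : Scheme.{u}}

theorem exists_chart (f : X ⟶ Y) (hf : Mor2.IsRegularClosedImmersion f) {F : X.Modules}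
    (hF : FlatMod.IsFinLocFree F) (y : Y) :
    ∃ (n : ℕ) (U : Y.Opens), IsAffineOpen U ∧ y ∈ U ∧
      HasProjectiveDimensionLE (secMod ((Scheme.Modules.pushforward f).obj F) U) n := by
  obtain ⟨hci, h⟩ := hf
  by_cases hy : y ∈ Set.range f
  · obtain ⟨x, rfl⟩ := hy
    obtain ⟨U, hU, hxU, rs, hrs, hker⟩ := h x
    refine ⟨rs.length, U, hU, hxU, ?_⟩
    letI : Algebra Γ(Y, U) Γ(X, f ⁻¹ᵁ U) := (f.app U).hom.toAlgebra
    letI : Module Γ(Y, U) Γ(F, f ⁻¹ᵁ U) := Module.compHom _ (f.app U).hom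
    haveI : IsScalarTower Γ(Y, U) Γ(X, f ⁻¹ᵁ U) Γ(F, f ⁻¹ᵁ U) :=
      IsScalarTower.of_algebraMap_smul (fun r x => rfl)
    have hs : Function.Surjective (algebraMap Γ(Y, U) Γ(X, f ⁻¹ᵁ U)) := f.app_surjective U hU
    have hk : RingHom.ker (algebraMap Γ(Y, U) Γ(X, f ⁻¹ᵁ U)) = Ideal.ofList rs := by
      rw [← hker, Scheme.Hom.ker_apply]
      rfl
    have hU' : IsAffineOpen (f ⁻¹ᵁ U) := hU.preimage f
    obtain ⟨h1, h2⟩ := finProj_sections hF hU'
    exact hasProjectiveDimensionLE_of_surjective hs rs hrs.toIsWeaklyRegular hk Γ(F, f ⁻¹ᵁ U)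
  · have hc : IsClosed (Set.range f) := f.isClosedEmbedding.isClosed_range
    obtain ⟨U, hU, hyU, hUc⟩ := exists_isAffineOpen_mem_and_subset (x := y)
      (U := (⟨(Set.range f)ᶜ, hc.isOpen_compl⟩ : Y.Opens)) hy
    refine ⟨0, U, hU, hyU, ?_⟩
    have h1 : f ⁻¹ᵁ U = ⊥ := by
      ext z
      simp only [Scheme.Hom.coe_preimage, Set.mem_preimage, Opens.coe_bot, Set.mem_empty_iff_false, iff_false]
      exact fun hz => hUc hz ⟨z, rfl⟩
    have h2 : Subsingleton Γ(X, f ⁻¹ᵁ U) := by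
      rw [h1]
      infer_instance
    have h3 : Subsingleton Γ(F, f ⁻¹ᵁ U) := Module.subsingleton Γ(X, f ⁻¹ᵁ U) Γ(F, f ⁻¹ᵁ U)
    have h4 : IsZero (secMod ((Scheme.Modules.pushforward f).obj F) U) := by
      rw [ModuleCat.isZero_iff_subsingleton]
      exact h3
    have h5 := h4.hasProjectiveDimensionLT_zero
    exact hasProjectiveDimensionLT_of_ge _ 0 1 (Nat.zero_le 1)

/-- Uniform bound over a quasi-compact scheme. -/
theorem exists_pdLE_of_local [CompactSpace Y] {M : Y.Modules}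
    (h : ∀ y : Y, ∃ (n : ℕ) (U : Y.Opens), IsAffineOpen U ∧ y ∈ U ∧ HasProjectiveDimensionLE (secMod M U) n) :
    ∃ n, PdLE n M := by
  choose n U hU hyU hpd using h
  obtain ⟨t, ht⟩ := isCompact_univ.elim_finite_subcover (fun y : Y => (U y : Set Y)) (fun y => (U y).2)
    (fun y _ => Set.mem_iUnion.2 ⟨y, hyU y⟩)
  refine ⟨t.sup n, fun y => ?_⟩
  obtain ⟨z, hz⟩ := Set.mem_iUnion.1 (ht (Set.mem_univ y))
  obtain ⟨hzt, hyz⟩ := Set.mem_iUnion.1 hz
  have := hpd z
  exact ⟨U z, hU z, hyz, hasProjectiveDimensionLT_of_ge _ (n z + 1) (t.sup n + 1)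
    (Nat.succ_le_succ (Finset.le_sup hzt))⟩

/-- The direct image of a finite locally free module along a regular closed immersion into a quasi-compact scheme
is locally of bounded projective dimension. -/
theorem exists_pdLE_pushforward [CompactSpace Y] (f : X ⟶ Y) (hf : Mor2.IsRegularClosedImmersion f) {F : X.Modules}
    (hF : FlatMod.IsFinLocFree F) : ∃ n, PdLE n ((Scheme.Modules.pushforward f).obj F) :=
  exists_pdLE_of_local fun y => exists_chart f hf hF y

end Groth.Agent.Krr.H498.RegPush
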