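import Groth.Agent.Krr.H498.LFRes
import Groth.Agent.Krr.H498.RegPush
import Groth.Agent.CohqA.AffPush

/-!
# Finite locally free resolutions of direct images along closed immersions

`hasLFRes_pushforward`: for `f` a regular closed immersion into a Noetherian scheme with enough locally free modules
and `F` finite locally free, `f_* F` has a finite locally free resolution.
-/

set_option autoImplicit false

universe u

open CategoryTheory CategoryTheory.Limits AlgebraicGeometry Opposite TopologicalSpace

namespace Groth.Agent.Krr.H498.PushRes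

open Groth.Agent.Krr.H498.PdSec Groth.Agent.Krr.H498.LFRes Groth.Agent.Krr.H498.RegPush

variable {X Y : Scheme.{u}}

theorem isCoh_pushforward (f : X ⟶ Y) [IsFinite f] {M : X.Modules} (hM : Coh.IsCoh M) :
    Coh.IsCoh ((Scheme.Modules.pushforward f).obj M) :=
  ⟨CohqA.AffPush.isQCoh_push f M hM.1, CohqA.AffPush.isFT_push f M hM.1 hM.2⟩

/-- General form: `f_* F` locally of finite projective dimension. -/
theorem hasLFRes_pushforward_of_local [IsNoetherian Y] (hY : KRR.HasEnoughLocFree Y) (f : X ⟶ Y) [IsFinite f]
    {F : X.Modules} (hF : Coh.IsCoh F)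
    (h : ∀ y : Y, ∃ (n : ℕ) (U : Y.Opens), IsAffineOpen U ∧ y ∈ U ∧
      HasProjectiveDimensionLE (secMod ((Scheme.Modules.pushforward f).obj F) U) n) :
    KRR.HasLFRes ((Scheme.Modules.pushforward f).obj F) := by
  obtain ⟨n, hn⟩ := exists_pdLE_of_local h
  exact hasLFRes_of_pdLE hY (isCoh_pushforward f hF) hn

/-- **Finite locally free resolutions of `f_* F`**, `f` a regular closed immersion. -/
theorem hasLFRes_pushforward [IsNoetherian Y] (hY : KRR.HasEnoughLocFree Y) (f : X ⟶ Y)
    (hf : Mor2.IsRegularClosedImmersion f) {F : X.Modules} (hF : FlatMod.IsFinLocFree F) :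
    KRR.HasLFRes ((Scheme.Modules.pushforward f).obj F) := by
  have := hf.1
  exact hasLFRes_pushforward_of_local hY f (PerfA.CohSerre.isCoh_of_isFinLocFree hF)
    fun y => exists_chart f hf hF y

end Groth.Agent.Krr.H498.PushRes
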