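import Groth.Agent.Krr.H498.ResClass
import Groth.Agent.Krr.H498.PushRes
import Groth.Agent.Sga67.ClosedPush
import Groth.Agent.Sga67.K0Basic

/-!
# The push-forward on `K` along a closed immersion

`f : X ⟶ Y` a regular closed immersion (more generally: a closed immersion such that `f_* F` has a finite locally free
resolution for all finite locally free `F`), `Y` quasi-compact quasi-separated with enough locally free modules.

* `pushK f hY h : SGA6.Kvb X →+ SGA6.Kvb Y` with `pushK_cl : [F] ↦ rcl (f_* F)`.
* `isPushCl_iff`: `KRR.IsPushCl f φX φY g ↔ ∀ F, g [F] = φY (rcl (f_* F))`.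
* `isPushCl_apply`: `g (φX x) = φY (pushK x)`.
* `existsUnique_isPushCl`.
-/

set_option autoImplicit false

universe v w u

open CategoryTheory CategoryTheory.Limits AlgebraicGeometry Opposite TopologicalSpace
open scoped ZeroObject
attribute [local instance] HasDerivedCategory.standard

namespace Groth.Agent.Krr.H498.PushCl

open Groth.Agent.Krr.H498.ResClass Groth.Agent.Krr.H498.ResPerf Groth.Agent.Sga67.K0Basic

variable {X Y : Scheme.{u}} (f : X ⟶ Y)

/-- Direct images of finite locally free modules have finite locally free resolutions. -/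
def GoodPush : Prop :=
  ∀ F : X.Modules, FlatMod.IsFinLocFree F → KRR.HasLFRes ((Scheme.Modules.pushforward f).obj F)

theorem goodPush_of_regular [IsNoetherian Y] (hY : KRR.HasEnoughLocFree Y)
    (hf : Mor2.IsRegularClosedImmersion f) : GoodPush f :=
  fun _ hF => PushRes.hasLFRes_pushforward hY f hf hF

theorem shortExact_push [IsClosedImmersion f] {S : ShortComplex X.Modules} (hS : S.ShortExact) :
    (S.map (Scheme.Modules.pushforward f)).ShortExact := by
  have := Sga67.ClosedPush.preservesFiniteColimits_pushforward f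
  exact hS.map_of_exact (Scheme.Modules.pushforward f)

section

variable [CompactSpace Y] [QuasiSeparatedSpace Y] (hY : KRR.HasEnoughLocFree Y)

/-- The push-forward on `K₀` of finite locally free modules. -/
noncomputable def pushK [IsClosedImmersion f] (h : GoodPush f) : SGA6.Kvb X →+ SGA6.Kvb Y :=
  liftSub (KRR.vbP X) (fun F => rcl hY ((Scheme.Modules.pushforward f).obj F))
    (fun _ hS h₁ h₂ h₃ => rcl_shortExact hY (shortExact_push f hS) (h _ h₁) (h _ h₂) (h _ h₃))

theorem pushK_cl [IsClosedImmersion f] (h : GoodPush f) {F : X.Modules} (hF : FlatMod.IsFinLocFree F) :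
    pushK f hY h (KRR.cl X F) = rcl hY ((Scheme.Modules.pushforward f).obj F) :=
  liftSub_clSub _ _ hF

variable {KX : Type v} {KY : Type w} [CommRing KX] [CommRing KY] (φX : SGA6.Kvb X →+ KX) (φY : SGA6.Kvb Y →+ KY)

theorem isPushCl_iff (h : GoodPush f) (g : KX →+ KY) : KRR.IsPushCl f φX φY g ↔
    ∀ F : X.Modules, FlatMod.IsFinLocFree F →
      g (φX (KRR.cl X F)) = φY (rcl hY ((Scheme.Modules.pushforward f).obj F)) := by
  constructor
  · intro hg F hF
    obtain ⟨n, L, π, hL⟩ := h F hF
    rw [hg F hF n L π hL, rcl_eq_sum hY hL, map_sum]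
    exact Finset.sum_congr rfl fun k _ => (map_zsmul φY _ _).symm
  · intro hg F hF n L π hL
    rw [hg F hF, rcl_eq_sum hY hL, map_sum]
    exact Finset.sum_congr rfl fun k _ => map_zsmul φY _ _

theorem isPushCl_apply [IsClosedImmersion f] (h : GoodPush f) {g : KX →+ KY} (hg : KRR.IsPushCl f φX φY g)
    (x : SGA6.Kvb X) : g (φX x) = φY (pushK f hY h x) := by
  have e : g.comp φX = φY.comp (pushK f hY h) := by
    refine hom_ext_sub fun F hF => ?_
    have h1 := (isPushCl_iff f hY φX φY h g).1 hg F hF
    have h2 := pushK_cl f hY h hF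
    exact h1.trans (congrArg φY h2.symm)
  exact DFunLike.congr_fun e x

include hY in
/-- Existence and uniqueness of the push-forward on models. -/
theorem existsUnique_isPushCl [IsClosedImmersion f] (h : GoodPush f) (hφX : Function.Bijective φX) :
    ∃! g : KX →+ KY, KRR.IsPushCl f φX φY g := by
  let e : SGA6.Kvb X ≃+ KX := AddEquiv.ofBijective φX hφX
  refine ⟨(φY.comp (pushK f hY h)).comp e.symm.toAddMonoidHom, ?_, ?_⟩
  · refine (isPushCl_iff f hY φX φY h _).2 fun F hF => ?_
    change φY (pushK f hY h (e.symm (e (KRR.cl X F)))) = _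
    rw [AddEquiv.symm_apply_apply, pushK_cl f hY h hF]
  · intro g hg
    ext x
    obtain ⟨y, rfl⟩ := hφX.2 x
    rw [isPushCl_apply f hY φX φY h hg y]
    change φY (pushK f hY h y) = φY (pushK f hY h (e.symm (e y)))
    rw [AddEquiv.symm_apply_apply]

end

end Groth.Agent.Krr.H498.PushCl
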