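import Groth.Agent.Krr.H498.ResCat
import Groth.Agent.Krr.H498.PdSec
import Groth.Agent.Krr.H498.RegPush
import Groth.Agent.Dcoh.FinLocFree
import Groth.Prelude.Def_KRR

/-!
# Finite locally free resolutions

* `isLFRes_iff`: `KRR.IsLFRes` in terms of exactness.
* `hasLFRes_iff`: `KRR.HasLFRes F ↔ ∃ n c, Res (KRR.vbP X) n F c`.
* `res_of_isLFRes`: the alternating sum of a resolution.
* `hasLFRes_of_pdLE`, `hasLFRes_pushforward`.
-/

set_option autoImplicit false

universe u

open CategoryTheory CategoryTheory.Limits AlgebraicGeometry Opposite TopologicalSpace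
open scoped ZeroObject

namespace Groth.Agent.Krr.H498.LFRes

open Groth.Agent.Krr.H498.ResCat Groth.Agent.Krr.H498.PdSec Groth.Agent.Sga67.K0Basic

variable {Y : Scheme.{u}}

instance : (KRR.vbP Y).IsClosedUnderIsomorphisms where
  of_iso e h := Dcoh.FinLocFree.isFinLocFree_of_iso e h

instance : (KRR.vbP Y).ContainsZero where
  exists_zero := ⟨0, isZero_zero _, Dcoh.FinLocFree.isFinLocFree_of_isZero (isZero_zero _)⟩

theorem isLFRes_iff {F : Y.Modules} {n : ℕ} {L : ChainComplex Y.Modules ℕ}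
    {π : L ⟶ (ChainComplex.single₀ Y.Modules).obj F} : KRR.IsLFRes F n L π ↔
      (∀ i, FlatMod.IsFinLocFree (L.X i)) ∧ (∀ i, n < i → IsZero (L.X i)) ∧ Ex π := by
  rw [← ResCat.quasiIso_iff]
  exact ⟨fun h => ⟨h.1, h.2, h.3⟩, fun h => ⟨h.1, h.2.1, h.2.2⟩⟩

/-- The Euler characteristic of a resolution. -/
theorem res_of_isLFRes {F : Y.Modules} {n : ℕ} {L : ChainComplex Y.Modules ℕ}
    {π : L ⟶ (ChainComplex.single₀ Y.Modules).obj F} (h : KRR.IsLFRes F n L π) :
    Res (KRR.vbP Y) n F (∑ k ∈ Finset.range (n + 1), (-1 : ℤ) ^ k • KRR.cl Y (L.X k)) :=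
  res_of_quasiIso n L F π h.quasiIso h.finLocFree h.isZero

theorem hasLFRes_of_res {F : Y.Modules} {n : ℕ} {c : SGA6.Kvb Y} (h : Res (KRR.vbP Y) n F c) :
    KRR.HasLFRes F := by
  obtain ⟨L, π, h1, h2, h3⟩ := exists_of_res
    (fun Z hZ => Dcoh.FinLocFree.isFinLocFree_of_isZero hZ) h
  exact ⟨n, L, π, h2, h3, h1⟩

theorem hasLFRes_iff {F : Y.Modules} : KRR.HasLFRes F ↔ ∃ n c, Res (KRR.vbP Y) n F c :=
  ⟨fun ⟨n, _, _, h⟩ => ⟨n, _, res_of_isLFRes h⟩, fun ⟨_, _, h⟩ => hasLFRes_of_res h⟩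

theorem res_iso {F G : Y.Modules} (e : F ≅ G) {n : ℕ} {c : SGA6.Kvb Y} (h : Res (KRR.vbP Y) n F c) :
    Res (KRR.vbP Y) n G c := by
  cases h with
  | zero _ hM =>
    have h1 : KRR.cl Y F = KRR.cl Y G := clSub_iso e
    have h2 : Res (KRR.vbP Y) 0 G (KRR.cl Y G) := Res.zero G ((KRR.vbP Y).prop_of_iso e hM)
    rw [← h1] at h2
    exact h2
  | succ n S hS h₂ c h =>
    let S' : ShortComplex Y.Modules := ShortComplex.mk S.f (S.g ≫ e.hom) (by rw [← Category.assoc, S.zero, zero_comp])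
    have hS' : S'.ShortExact :=
      ShortComplex.shortExact_of_iso (ShortComplex.isoMk (S₁ := S) (S₂ := S') (Iso.refl _) (Iso.refl _) e
        (by simp [S']) (by simp [S'])) hS
    exact Res.succ n S' hS' h₂ c h

/-- Modules with a finite locally free resolution have locally bounded projective dimension and are coherent. -/
theorem pdLE_and_isCoh_of_res {F : Y.Modules} {n : ℕ} {c : SGA6.Kvb Y} (h : Res (KRR.vbP Y) n F c) :
    PdLE n F ∧ Coh.IsCoh F := by
  induction h with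
  | zero M hM => exact ⟨pdLE_of_isFinLocFree hM, PerfA.CohSerre.isCoh_of_isFinLocFree hM⟩
  | succ n S hS h₂ c h ih =>
    have hc₂ := PerfA.CohSerre.isCoh_of_isFinLocFree h₂
    have hc₃ : Coh.IsCoh S.X₃ := by
      have h1 : Coh.IsCoh (cokernel S.f) := PerfA.CohSerre.isCoh_cokernel S.f ih.2.1 hc₂
      exact PerfA.CohSerre.isCoh_of_iso
        (IsColimit.coconePointUniqueUpToIso (cokernelIsCokernel S.f) hS.gIsCokernel) h1
    refine ⟨fun y => ?_, hc₃⟩
    obtain ⟨U, hU, hy, h1⟩ := ih.1 y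
    refine ⟨U, hU, hy, ?_⟩
    obtain ⟨w, hw⟩ := shortExact_sec hS hc₂.1 hc₃.1 hU
    have h2 : Projective (secMod S.X₂ U) := (IsProjective.iff_projective _).1 (finProj_sections h₂ hU).2
    exact (hw.hasProjectiveDimensionLT_X₃_iff n h2).2 h1

/-- Coherent modules of locally bounded projective dimension have finite locally free resolutions, in the presence
of enough locally free modules. -/
theorem exists_res_of_pdLE [IsLocallyNoetherian Y] (hY : KRR.HasEnoughLocFree Y) (n : ℕ) :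
    ∀ (M : Y.Modules), Coh.IsCoh M → PdLE n M → ∃ c, Res (KRR.vbP Y) n M c := by
  induction n with
  | zero =>
    intro M hM h
    exact ⟨_, Res.zero M (isFinLocFree_of_pdLE_zero hM h)⟩
  | succ n ih =>
    intro M hM h
    obtain ⟨E, p, hE, hp⟩ := hY M hM
    let S : ShortComplex Y.Modules := ShortComplex.mk (kernel.ι p) p (kernel.condition p)
    have hS : S.ShortExact :=
      { exact := ShortComplex.exact_kernel p
        mono_f := inferInstanceAs (Mono (kernel.ι p))
        epi_g := hp }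
    have hK : Coh.IsCoh S.X₁ := PerfA.CohSerre.isCoh_kernel p (PerfA.CohSerre.isCoh_of_isFinLocFree hE) hM.1
    obtain ⟨c, hc⟩ := ih S.X₁ hK (pdLE_kernel hS hE hM.1 h)
    exact ⟨_, Res.succ n S hS hE c hc⟩

theorem hasLFRes_of_pdLE [IsLocallyNoetherian Y] (hY : KRR.HasEnoughLocFree Y) {n : ℕ} {M : Y.Modules}
    (hM : Coh.IsCoh M) (h : PdLE n M) : KRR.HasLFRes M := by
  obtain ⟨c, hc⟩ := exists_res_of_pdLE hY n M hM h
  exact hasLFRes_of_res hc

/-- Over a locally Noetherian scheme with enough locally free modules, `HasLFRes` means coherent of locally bounded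
projective dimension. -/
theorem hasLFRes_iff_pdLE [IsLocallyNoetherian Y] (hY : KRR.HasEnoughLocFree Y) {M : Y.Modules} :
    KRR.HasLFRes M ↔ Coh.IsCoh M ∧ ∃ n, PdLE n M := by
  constructor
  · intro h
    obtain ⟨n, c, hc⟩ := hasLFRes_iff.1 h
    exact ⟨(pdLE_and_isCoh_of_res hc).2, n, (pdLE_and_isCoh_of_res hc).1⟩
  · rintro ⟨h1, n, h2⟩
    exact hasLFRes_of_pdLE hY h1 h2

end Groth.Agent.Krr.H498.LFRes
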