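import Mathlib.RingTheory.Regular.ProjectiveDimension
import Mathlib.RingTheory.Flat.Basic
import Mathlib.LinearAlgebra.TensorProduct.Tower
import Mathlib.RingTheory.Ideal.Quotient.Operations
import Mathlib.RingTheory.Finiteness.Projective

/-!
# Projective dimension over a quotient by a weakly regular sequence

* `isWeaklyRegular_of_flat`: a weakly regular sequence of `R` is weakly regular on every flat module.
* `hasProjectiveDimensionLT_quot`: `pd (M / (rs) M) ≤ pd M + length rs` for `rs` weakly regular on `M`.
* `hasProjectiveDimensionLE_of_surjective`: `R → S` surjective with kernel generated by a weakly regular sequence of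
  length `c`, `N` finite projective over `S`: `pd_R N ≤ c`.
-/

set_option autoImplicit false

universe u

open CategoryTheory RingTheory.Sequence TensorProduct

namespace Groth.Agent.Krr.H498.PdAlg

variable {R : Type u} [CommRing R]

theorem isWeaklyRegular_of_flat (M : Type u) [AddCommGroup M] [Module R M] [Module.Flat R M] (rs : List R)
    (h : IsWeaklyRegular R rs) : IsWeaklyRegular M rs := by
  have h1 : IsWeaklyRegular (M ⊗[R] R) rs := h.isWeaklyRegular_lTensor
  exact ((TensorProduct.rid R M).isWeaklyRegular_congr rs).1 h1

/-- `pd (M / (rs) M) < n + length rs` if `pd M < n` (`n ≥ 1`). -/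
theorem hasProjectiveDimensionLT_quot (M : ModuleCat.{u} R) (n : ℕ) (rs : List R) (h : IsWeaklyRegular M rs)
    (hM : HasProjectiveDimensionLT M n) :
    HasProjectiveDimensionLT (ModuleCat.of R (M ⧸ Ideal.ofList rs • (⊤ : Submodule R M))) (n + rs.length) := by
  generalize hl : rs.length = k
  induction k generalizing M rs n with
  | zero =>
    have h0 : rs = [] := List.length_eq_zero_iff.mp hl
    subst h0
    rw [add_zero]
    have h1 : Ideal.ofList ([] : List R) • (⊤ : Submodule R M) = ⊥ := by
      rw [Ideal.ofList_nil, Submodule.bot_smul]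
    exact hasProjectiveDimensionLT_of_iso (Submodule.quotEquivOfEqBot _ h1).symm.toModuleIso n
  | succ k ih =>
    match rs with
    | [] => simp at hl
    | x :: rs' =>
      rw [isWeaklyRegular_cons_iff] at h
      simp only [List.length_cons, Nat.add_right_cancel_iff] at hl
      have h1 : HasProjectiveDimensionLT (ModuleCat.of R (QuotSMulTop x M)) (n + 1) :=
        h.1.smulShortComplex_shortExact.hasProjectiveDimensionLT_X₃ n hM
          (hasProjectiveDimensionLT_of_ge M n (n + 1) (Nat.le_succ n))
      have h2 := ih (ModuleCat.of R (QuotSMulTop x M)) (n + 1) rs' h.2 h1 hl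
      have h3 : n + 1 + k = n + (k + 1) := by ring
      rw [h3] at h2
      exact hasProjectiveDimensionLT_of_iso
        (Submodule.quotOfListConsSMulTopEquivQuotSMulTopInner M x rs').symm.toModuleIso _

/-- Finite projective modules over `R / (rs)`, `rs` weakly regular, have projective dimension `≤ length rs`
over `R`. -/
theorem hasProjectiveDimensionLE_of_surjective {S : Type u} [CommRing S] [Algebra R S]
    (hs : Function.Surjective (algebraMap R S)) (rs : List R) (hrs : IsWeaklyRegular R rs)
    (hk : RingHom.ker (algebraMap R S) = Ideal.ofList rs)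
    (N : Type u) [AddCommGroup N] [Module R N] [Module S N] [IsScalarTower R S N] [Module.Finite S N]
    [Module.Projective S N] : HasProjectiveDimensionLE (ModuleCat.of R N) rs.length := by
  obtain ⟨m, f, g, -, -, hfg⟩ := Module.Finite.exists_comp_eq_id_of_projective S N
  -- `S^m` as a quotient of `R^m`
  let q : (Fin m → R) →ₗ[R] (Fin m → S) :=
    LinearMap.pi fun i => (Algebra.linearMap R S) ∘ₗ LinearMap.proj i
  have hq : Function.Surjective q := by
    intro y
    choose x hx using fun i => hs (y i)
    exact ⟨x, funext hx⟩
  have hker : LinearMap.ker q = Ideal.ofList rs • (⊤ : Submodule R (Fin m → R)) := by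
    classical
    apply le_antisymm
    · intro x hx
      have h1 : ∀ i, x i ∈ Ideal.ofList rs := by
        intro i
        rw [← hk, RingHom.mem_ker]
        exact congrFun (LinearMap.mem_ker.1 hx) i
      rw [pi_eq_sum_univ' x]
      exact Submodule.sum_mem _ fun i _ => Submodule.smul_mem_smul (h1 i) trivial
    · rw [Submodule.smul_le]
      intro r hr x _
      rw [LinearMap.mem_ker]
      funext i
      have h1 : algebraMap R S r = 0 := by
        rw [← RingHom.mem_ker, hk]; exact hr
      change algebraMap R S (r * x i) = 0
      rw [map_mul, h1, zero_mul]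
  let e : ((Fin m → R) ⧸ Ideal.ofList rs • (⊤ : Submodule R (Fin m → R))) ≃ₗ[R] (Fin m → S) :=
    (Submodule.quotEquivOfEq _ _ hker.symm).trans (q.quotKerEquivOfSurjective hq)
  have h1 : HasProjectiveDimensionLT (ModuleCat.of R (Fin m → R)) 1 := by
    have : Projective (ModuleCat.of R (Fin m → R)) := ModuleCat.projective_of_free (Pi.basisFun R (Fin m))
    infer_instance
  have h2 := hasProjectiveDimensionLT_quot (ModuleCat.of R (Fin m → R)) 1 rs
    (isWeaklyRegular_of_flat (Fin m → R) rs hrs) h1
  have h3 : HasProjectiveDimensionLT (ModuleCat.of R (Fin m → S)) (1 + rs.length) :=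
    hasProjectiveDimensionLT_of_iso e.toModuleIso _
  rw [add_comm] at h3
  let r : Retract (ModuleCat.of R N) (ModuleCat.of R (Fin m → S)) :=
    { i := ModuleCat.ofHom (g.restrictScalars R)
      r := ModuleCat.ofHom (f.restrictScalars R)
      retract := by
        ext x
        exact LinearMap.congr_fun hfg x }
  exact r.hasProjectiveDimensionLT _

end Groth.Agent.Krr.H498.PdAlg
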