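import Groth.Agent.Sga67.K0Basic
import Mathlib.CategoryTheory.Abelian.Projective.Resolution
import Mathlib.CategoryTheory.Abelian.Exact
import Mathlib.Algebra.Homology.Augment
import Mathlib.CategoryTheory.ObjectProperty.ClosedUnderIsomorphisms
import Mathlib.Algebra.BigOperators.Group.Finset.Basic

/-!
# Finite resolutions in abelian categories

* `quasiIso_iff`: a morphism `L ⟶ M[0]` from a chain complex is a quasi-isomorphism iff the augmented complex is exact.
* `exists_splice`: `0 → K → E → M → 0` and a resolution of `K` give one of `M`.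
* `exists_syzygy`: the truncation of a resolution of `M` resolves the kernel of `L₀ → M`.
* `Res V n M c`: `M` has a resolution of length `≤ n` by objects of `V` with Euler characteristic `c ∈ K₀(V)`.
* `res_of_quasiIso`, `exists_of_res`.
-/

set_option autoImplicit false

universe v u

open CategoryTheory CategoryTheory.Limits HomologicalComplex

namespace Groth.Agent.Krr.H498.ResCat

open Groth.Agent.Sga67.K0Basic

variable {A : Type u} [Category.{v} A] [Abelian A]

section Exactness

variable {L : ChainComplex A ℕ} {M : A} (π : L ⟶ (ChainComplex.single₀ A).obj M)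

/-- The augmentation `L₀ ⟶ M`. -/
def aug : L.X 0 ⟶ M := π.f 0

theorem d_comp_aug : L.d 1 0 ≫ aug π = 0 :=
  (ChainComplex.toSingle₀Equiv L M π).2

/-- Exactness of the augmented complex. -/
structure Ex : Prop where
  exact_succ : ∀ i : ℕ, (ShortComplex.mk (L.d (i + 2) (i + 1)) (L.d (i + 1) i) (L.d_comp_d _ _ _)).Exact
  exact_zero : (ShortComplex.mk (L.d 1 0) (aug π) (d_comp_aug π)).Exact
  epi : Epi (aug π)

theorem exactAt_succ_iff (L : ChainComplex A ℕ) (i : ℕ) : L.ExactAt (i + 1) ↔
    (ShortComplex.mk (L.d (i + 2) (i + 1)) (L.d (i + 1) i) (L.d_comp_d _ _ _)).Exact :=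
  HomologicalComplex.exactAt_iff' _ (i + 2) (i + 1) i (by simp only [ChainComplex.prev]; rfl) (by simp)

theorem quasiIsoAt_zero_iff : QuasiIsoAt π 0 ↔
    (ShortComplex.mk (L.d 1 0) (aug π) (d_comp_aug π)).Exact ∧ Epi (aug π) := by
  rw [ChainComplex.quasiIsoAt₀_iff, ShortComplex.quasiIso_iff_of_zeros']
  · refine ShortComplex.exact_and_epi_g_iff_of_iso ?_
    exact ShortComplex.isoMk (Iso.refl _) (Iso.refl _) (Iso.refl _)
          ((Category.id_comp _).trans (Category.comp_id _).symm)
          ((Category.id_comp _).trans (Category.comp_id _).symm)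
  · exact L.shape _ _ (by simp)
  all_goals rfl

theorem quasiIso_iff : QuasiIso π ↔ Ex π := by
  constructor
  · intro h
    have h0 := (quasiIsoAt_zero_iff π).1 inferInstance
    refine ⟨fun i => ?_, h0.1, h0.2⟩
    rw [← exactAt_succ_iff, ← quasiIsoAt_iff_exactAt' π (i + 1) (ChainComplex.exactAt_succ_single_obj _ _)]
    infer_instance
  · intro h
    refine ⟨fun i => ?_⟩
    cases i with
    | zero => exact (quasiIsoAt_zero_iff π).2 ⟨h.exact_zero, h.epi⟩
    | succ i =>
      rw [quasiIsoAt_iff_exactAt' π (i + 1) (ChainComplex.exactAt_succ_single_obj _ _), exactAt_succ_iff]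
      exact h.exact_succ i

end Exactness

/-- The augmented morphism with given augmentation. -/
noncomputable def mkAug (L : ChainComplex A ℕ) {M : A} (f : L.X 0 ⟶ M) (hf : L.d 1 0 ≫ f = 0) :
    L ⟶ (ChainComplex.single₀ A).obj M :=
  (ChainComplex.toSingle₀Equiv L M).symm ⟨f, hf⟩

@[simp]
theorem aug_mkAug (L : ChainComplex A ℕ) {M : A} (f : L.X 0 ⟶ M) (hf : L.d 1 0 ≫ f = 0) :
    aug (mkAug L f hf) = f := by
  have h := (ChainComplex.toSingle₀Equiv L M).apply_symm_apply ⟨f, hf⟩
  exact congrArg Subtype.val h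

theorem ex_mkAug (L : ChainComplex A ℕ) {M : A} (f : L.X 0 ⟶ M) (hf : L.d 1 0 ≫ f = 0)
    (h1 : ∀ i : ℕ, (ShortComplex.mk (L.d (i + 2) (i + 1)) (L.d (i + 1) i) (L.d_comp_d _ _ _)).Exact)
    (h2 : (ShortComplex.mk (L.d 1 0) f hf).Exact) (h3 : Epi f) : Ex (mkAug L f hf) where
  exact_succ := h1
  exact_zero := by
    have e : ShortComplex.mk (L.d 1 0) (aug (mkAug L f hf)) (d_comp_aug _) = ShortComplex.mk (L.d 1 0) f hf := by
      congr 1
      exact aug_mkAug L f hf
    rw [e]
    exact h2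
  epi := by
    rw [aug_mkAug]
    exact h3

/-- Splicing. -/
theorem exists_splice {S : ShortComplex A} (hS : S.ShortExact) (L : ChainComplex A ℕ)
    (π : L ⟶ (ChainComplex.single₀ A).obj S.X₁) (h : QuasiIso π) :
    ∃ (L' : ChainComplex A ℕ) (π' : L' ⟶ (ChainComplex.single₀ A).obj S.X₃), QuasiIso π' ∧
      L'.X 0 = S.X₂ ∧ ∀ i, L'.X (i + 1) = L.X i := by
  have hx := (quasiIso_iff π).1 h
  have hm := hS.mono_f
  have hepi := hx.epi
  have w : L.d 1 0 ≫ aug π ≫ S.f = 0 := by rw [← Category.assoc, d_comp_aug, zero_comp]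
  have w₀ : (aug π ≫ S.f) ≫ S.g = 0 := by rw [Category.assoc, S.zero, comp_zero]
  have w' : (L.augment (aug π ≫ S.f) w).d 1 0 ≫ S.g = 0 := w₀
  refine ⟨L.augment (aug π ≫ S.f) w, mkAug _ S.g w', ?_, rfl, fun i => rfl⟩
  rw [quasiIso_iff]
  refine ex_mkAug _ _ _ ?_ ?_ hS.epi_g
  · rintro (_ | i)
    · -- exactness at `L₀`
      have e : (ShortComplex.mk (L.d 1 0) (aug π ≫ S.f) w).Exact := by
        refine (ShortComplex.exact_iff_of_epi_of_isIso_of_mono
          (S₁ := ShortComplex.mk (L.d 1 0) (aug π) (d_comp_aug π))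
          (S₂ := ShortComplex.mk (L.d 1 0) (aug π ≫ S.f) w)
          { τ₁ := 𝟙 _, τ₂ := 𝟙 _, τ₃ := S.f }).1 hx.exact_zero
      exact e
    · exact hx.exact_succ i
  · have e : (ShortComplex.mk (aug π ≫ S.f) S.g w₀).Exact := by
      refine (ShortComplex.exact_iff_of_epi_of_isIso_of_mono
          (S₁ := ShortComplex.mk (aug π ≫ S.f) S.g w₀)
          (S₂ := S)
          { τ₁ := aug π, τ₂ := 𝟙 _, τ₃ := 𝟙 _ }).2 hS.exact
    exact e

/-- The truncation of a resolution resolves the first syzygy. -/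
theorem exists_syzygy (L : ChainComplex A ℕ) {M : A} (π : L ⟶ (ChainComplex.single₀ A).obj M) (h : QuasiIso π) :
    ∃ π' : ChainComplex.truncate.obj L ⟶ (ChainComplex.single₀ A).obj (kernel (aug π)), QuasiIso π' := by
  have hx := (quasiIso_iff π).1 h
  have w : L.d 2 1 ≫ kernel.lift (aug π) (L.d 1 0) (d_comp_aug π) = 0 := by
    rw [← cancel_mono (kernel.ι (aug π)), Category.assoc, kernel.lift_ι, zero_comp]
    exact L.d_comp_d _ _ _
  refine ⟨mkAug _ (kernel.lift (aug π) (L.d 1 0) (d_comp_aug π)) w, ?_⟩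
  rw [quasiIso_iff]
  refine ex_mkAug _ _ _ ?_ ?_ ?_
  · exact fun i => hx.exact_succ (i + 1)
  · have e : (ShortComplex.mk (L.d 2 1) (kernel.lift (aug π) (L.d 1 0) (d_comp_aug π)) w).Exact := by
      refine (ShortComplex.exact_iff_of_epi_of_isIso_of_mono
          (S₁ := ShortComplex.mk (L.d 2 1) (kernel.lift (aug π) (L.d 1 0) (d_comp_aug π)) w)
          (S₂ := ShortComplex.mk (L.d 2 1) (L.d 1 0) (L.d_comp_d _ _ _))
          { τ₁ := 𝟙 _, τ₂ := 𝟙 _, τ₃ := kernel.ι (aug π) }).2 (hx.exact_succ 0)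
    exact e
  · exact hx.exact_zero.epi_kernelLift

/-- A resolution of length zero is an isomorphism. -/
theorem isIso_aug (L : ChainComplex A ℕ) {M : A} (π : L ⟶ (ChainComplex.single₀ A).obj M) (h : QuasiIso π)
    (h0 : IsZero (L.X 1)) : IsIso (aug π) := by
  have hx := (quasiIso_iff π).1 h
  have := hx.epi
  have : Mono (aug π) := by
    refine (ShortComplex.exact_iff_mono _ (h0.eq_of_src _ _)).1 hx.exact_zero
  exact isIso_of_mono_of_epi _

variable (V : ObjectProperty A)

/-- `Res V n M c`: `M` has a resolution of length at most `n` by objects of `V` with alternating sum of classes `c`. -/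
inductive Res : ℕ → A → KZero.K0sub V → Prop
  | zero (M : A) (hM : V M) : Res 0 M (KZero.clSub V M)
  | succ (n : ℕ) (S : ShortComplex A) (hS : S.ShortExact) (h₂ : V S.X₂) (c : KZero.K0sub V) (h : Res n S.X₁ c) :
      Res (n + 1) S.X₃ (KZero.clSub V S.X₂ - c)

variable {V}

theorem res_of_quasiIso [V.IsClosedUnderIsomorphisms] [V.ContainsZero] (n : ℕ) : ∀ (L : ChainComplex A ℕ) (M : A)
    (π : L ⟶ (ChainComplex.single₀ A).obj M), QuasiIso π → (∀ i, V (L.X i)) → (∀ i, n < i → IsZero (L.X i)) →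
    Res V n M (∑ k ∈ Finset.range (n + 1), (-1 : ℤ) ^ k • KZero.clSub V (L.X k)) := by
  induction n with
  | zero =>
    intro L M π h hV h0
    have := isIso_aug L π h (h0 1 Nat.one_pos)
    rw [zero_add, Finset.sum_range_one, pow_zero, one_smul, clSub_iso (asIso (aug π))]
    exact .zero M (V.prop_of_iso (asIso (aug π)) (hV 0))
  | succ n ih =>
    intro L M π h hV h0
    obtain ⟨π', hπ'⟩ := exists_syzygy L π h
    have hx := (quasiIso_iff π).1 h
    have h1 := ih (ChainComplex.truncate.obj L) _ π' hπ' (fun i => hV (i + 1))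
      (fun i hi => h0 (i + 1) (Nat.succ_lt_succ hi))
    have hepi := hx.epi
    let S : ShortComplex A := ShortComplex.mk (kernel.ι (aug π)) (aug π) (kernel.condition _)
    have hS : S.ShortExact :=
      { exact := ShortComplex.exact_kernel (aug π)
        mono_f := inferInstanceAs (Mono (kernel.ι (aug π)))
        epi_g := hepi }
    have h2 := Res.succ n S hS (hV 0) _ h1
    have e : ∑ k ∈ Finset.range (n + 1 + 1), (-1 : ℤ) ^ k • KZero.clSub V (L.X k) =
        KZero.clSub V S.X₂ - ∑ k ∈ Finset.range (n + 1), (-1 : ℤ) ^ k •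
          KZero.clSub V ((ChainComplex.truncate.obj L).X k) := by
      rw [Finset.sum_range_succ', pow_zero, one_smul, add_comm, sub_eq_add_neg, ← Finset.sum_neg_distrib]
      congr 1
      refine Finset.sum_congr rfl fun k _ => ?_
      rw [pow_succ, mul_neg_one, neg_smul]
      rfl
    rw [e]
    exact h2

theorem exists_of_res (hz : ∀ Z : A, IsZero Z → V Z) {n : ℕ} {M : A} {c : KZero.K0sub V} (h : Res V n M c) :
    ∃ (L : ChainComplex A ℕ) (π : L ⟶ (ChainComplex.single₀ A).obj M), QuasiIso π ∧ (∀ i, V (L.X i)) ∧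
      ∀ i, n < i → IsZero (L.X i) := by
  induction h with
  | zero M hM =>
    refine ⟨(ChainComplex.single₀ A).obj M, 𝟙 _, inferInstance, ?_, ?_⟩
    · rintro (_ | i)
      · exact hM
      · exact hz _ (HomologicalComplex.isZero_single_obj_X _ _ _ _ (Nat.succ_ne_zero i))
    · intro i hi
      exact HomologicalComplex.isZero_single_obj_X _ _ _ _ hi.ne'
  | succ n S hS h₂ c _ ih =>
    obtain ⟨L, π, hπ, hV, h0⟩ := ih
    obtain ⟨L', π', hπ', e0, e1⟩ := exists_splice hS L π hπ
    refine ⟨L', π', hπ', ?_, ?_⟩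
    · rintro (_ | i)
      · rw [e0]; exact h₂
      · rw [e1]; exact hV i
    · rintro (_ | i) hi
      · exact absurd hi (Nat.not_lt_zero _)
      · rw [e1]
        exact h0 i (Nat.lt_of_succ_lt_succ hi)

end Groth.Agent.Krr.H498.ResCat
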