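import Groth.Agent.Krr.H498.ResPerf
import Groth.Agent.S1028
import Groth.Agent.Sga67.K0Basic

/-!
# The class in `K₀(vect Y)` of a module with a finite locally free resolution

`Y` quasi-compact quasi-separated with enough locally free modules.

* `rho hY : SGA6.Kvb Y ≃+ SGA6.Kperf Y`, `rho_cl`.
* `rcl hY M : SGA6.Kvb Y`: the class of `M`, with `rho hY (rcl hY M) = [M[0]]`.
* `rcl_eq_sum`: `rcl hY M = Σ (-1)^k [L_k]` for every finite locally free resolution `L` of `M`.
* `rcl_of_isFinLocFree`, `rcl_iso`, `rcl_shortExact`, `rcl_isZero`.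
-/

set_option autoImplicit false

universe u

open CategoryTheory CategoryTheory.Limits AlgebraicGeometry Opposite TopologicalSpace
open scoped ZeroObject
attribute [local instance] HasDerivedCategory.standard

namespace Groth.Agent.Krr.H498.ResClass

open Groth.Agent.Krr.H498.ResCat Groth.Agent.Krr.H498.LFRes Groth.Agent.Krr.H498.ResPerf
  Groth.Agent.Sga67.K0Basic

variable {Y : Scheme.{u}} [CompactSpace Y] [QuasiSeparatedSpace Y] (hY : KRR.HasEnoughLocFree Y)

/-- `K₀(vect Y) ≃ K₀(perf Y)`. -/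
noncomputable def rho : SGA6.Kvb Y ≃+ SGA6.Kperf Y :=
  (Groth.Agent.S1028.result Y (hasResolutionProperty hY)).choose

theorem rho_cl {E : Y.Modules} (hE : FlatMod.IsFinLocFree E) :
    rho hY (KRR.cl Y E) = KZero.clTr (SGA6.perfP Y) (DCoh.inD Y E) :=
  (Groth.Agent.S1028.result Y (hasResolutionProperty hY)).choose_spec E hE

/-- The class of a module. -/
noncomputable def rcl (M : Y.Modules) : SGA6.Kvb Y :=
  (rho hY).symm (KZero.clTr (SGA6.perfP Y) (DCoh.inD Y M))

theorem rho_rcl (M : Y.Modules) : rho hY (rcl hY M) = KZero.clTr (SGA6.perfP Y) (DCoh.inD Y M) :=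
  (rho hY).apply_symm_apply _

theorem rcl_of_isFinLocFree {E : Y.Modules} (hE : FlatMod.IsFinLocFree E) : rcl hY E = KRR.cl Y E := by
  rw [rcl, ← rho_cl hY hE, AddEquiv.symm_apply_apply]

/-- Additivity on short exact sequences of perfect modules. -/
theorem rcl_shortExact' {S : ShortComplex Y.Modules} (hS : S.ShortExact)
    (h₁ : DCoh.IsPerfect (DCoh.inD Y S.X₁)) (h₂ : DCoh.IsPerfect (DCoh.inD Y S.X₂))
    (h₃ : DCoh.IsPerfect (DCoh.inD Y S.X₃)) : rcl hY S.X₂ = rcl hY S.X₁ + rcl hY S.X₃ := by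
  apply (rho hY).injective
  rw [map_add, rho_rcl, rho_rcl, rho_rcl]
  exact clTr_of_triangle _ hS.singleTriangle_distinguished h₁ h₂ h₃

/-- Additivity on short exact sequences of modules with finite locally free resolutions. -/
theorem rcl_shortExact {S : ShortComplex Y.Modules} (hS : S.ShortExact)
    (h₁ : KRR.HasLFRes S.X₁) (h₂ : KRR.HasLFRes S.X₂) (h₃ : KRR.HasLFRes S.X₃) :
    rcl hY S.X₂ = rcl hY S.X₁ + rcl hY S.X₃ :=
  rcl_shortExact' hY hS (isPerfect_of_hasLFRes h₁) (isPerfect_of_hasLFRes h₂) (isPerfect_of_hasLFRes h₃)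

theorem rcl_isZero {Z : Y.Modules} (hZ : IsZero Z) : rcl hY Z = 0 := by
  apply (rho hY).injective
  rw [map_zero, rho_rcl]
  exact clTr_of_isZero ((DerivedCategory.singleFunctor Y.Modules 0).map_isZero hZ)

theorem rcl_iso {M N : Y.Modules} (e : M ≅ N) (hM : KRR.HasLFRes M) : rcl hY M = rcl hY N := by
  apply (rho hY).injective
  rw [rho_rcl, rho_rcl]
  have h1 := isPerfect_of_hasLFRes hM
  have h2 : DCoh.IsPerfect (DCoh.inD Y N) :=
    PerfA.PerfLocal.isPerfect_of_iso ((DerivedCategory.singleFunctor Y.Modules 0).mapIso e) h1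
  exact clTr_iso' ((DerivedCategory.singleFunctor Y.Modules 0).mapIso e) h1 h2
    ((DerivedCategory.singleFunctor Y.Modules 0).map_isZero (isZero_zero Y.Modules))
    (PerfA.PerfLocal.isPerfect_inD_of_isFinLocFree (flf_of_isZero (isZero_zero _)))

/-- The class of a module with a resolution of Euler characteristic `c`. -/
theorem rcl_of_res {M : Y.Modules} {n : ℕ} {c : SGA6.Kvb Y} (h : Res (KRR.vbP Y) n M c) : rcl hY M = c := by
  induction h with
  | zero M hM => exact rcl_of_isFinLocFree hY hM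
  | succ n S hS h₂ c h ih =>
    have h1 := isPerfect_of_res h
    have h2 : DCoh.IsPerfect (DCoh.inD Y S.X₂) := PerfA.PerfLocal.isPerfect_inD_of_isFinLocFree h₂
    have h3 := (isPerfect_three hS).1 h1 h2
    have h4 := rcl_shortExact' hY hS h1 h2 h3
    rw [ih, rcl_of_isFinLocFree hY h₂] at h4
    rw [eq_sub_iff_add_eq, add_comm]
    exact h4.symm

/-- **The class of `M` is the alternating sum of the classes of the terms of any finite locally free resolution.** -/
theorem rcl_eq_sum {M : Y.Modules} {n : ℕ} {L : ChainComplex Y.Modules ℕ}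
    {π : L ⟶ (ChainComplex.single₀ Y.Modules).obj M} (h : KRR.IsLFRes M n L π) :
    rcl hY M = ∑ k ∈ Finset.range (n + 1), (-1 : ℤ) ^ k • KRR.cl Y (L.X k) :=
  rcl_of_res hY (res_of_isLFRes h)

end Groth.Agent.Krr.H498.ResClass
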