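import Groth.Agent.Krr.H498.LFRes
import Groth.Agent.Dcoh.TopCoh
import Groth.Agent.S1036
import Groth.Agent.S0887
import Groth.Agent.PerfA.PerfLocal

/-!
# Finite locally free resolutions and perfect modules

* `hasLFRes_of_isPerfect`: on a quasi-compact quasi-separated scheme with the resolution property, `M[0]` perfect
  implies that `M` has a finite locally free resolution.
* `hasLFRes_iff_isPerfect`.
* `hasLFRes_two₁`, `hasLFRes_two₂`, `hasLFRes_two₃`: two out of three in short exact sequences.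
-/

set_option autoImplicit false

universe u

open CategoryTheory CategoryTheory.Limits AlgebraicGeometry Opposite TopologicalSpace
open scoped ZeroObject
attribute [local instance] HasDerivedCategory.standard

namespace Groth.Agent.Krr.H498.ResPerf

open Groth.Agent.Krr.H498.ResCat Groth.Agent.Krr.H498.LFRes Groth.Agent.Sga67.K0Basic

variable {Y : Scheme.{u}}

theorem flf_of_isZero {Z : Y.Modules} (h : IsZero Z) : FlatMod.IsFinLocFree Z :=
  Dcoh.FinLocFree.isFinLocFree_of_isZero h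

/-- Cycles in negative degrees of a strictly perfect complex exact in negative degrees. -/
theorem exists_res_cycles {E : CochainComplex Y.Modules ℤ} (hE : ∀ i, FlatMod.IsFinLocFree (E.X i)) (a : ℤ)
    (ha : ∀ i, i < a → IsZero (E.X i)) (hex : ∀ i, i < 0 → IsZero (E.homology i)) (k : ℕ) :
    ∀ i : ℤ, i < a + k → i < 0 → ∃ n c, Res (KRR.vbP Y) n (E.cycles i) c := by
  induction k with
  | zero =>
    intro i hi _
    have hz : IsZero (E.cycles i) := by
      rw [IsZero.iff_id_eq_zero, ← cancel_mono (E.iCycles i)]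
      exact (ha i (by simpa using hi)).eq_of_tgt _ _
    exact ⟨0, _, Res.zero _ (flf_of_isZero hz)⟩
  | succ k ih =>
    intro i hi hi0
    obtain ⟨n, c, hc⟩ := ih (i - 1) (by push_cast at hi; lia) (by lia)
    have hS := Dcoh.TopCoh.shortExact_cycles E (i - 1) i (by lia) (hex i hi0)
    exact ⟨n + 1, _, Res.succ n _ hS (hE (i - 1)) c hc⟩

/-- A strictly perfect complex with cohomology only in degree `0` gives a resolution of its `H⁰`. -/
theorem exists_res_homology {E : CochainComplex Y.Modules ℤ} (hE : DCoh.IsStrictlyPerfect E)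
    (hex : ∀ i, i ≠ 0 → IsZero (E.homology i)) : ∃ n c, Res (KRR.vbP Y) n (E.homology 0) c := by
  have h0 := Dcoh.TopCoh.isFinLocFree_cycles hE 0 (fun i hi => hex i (by lia))
  obtain ⟨⟨a, b, hab⟩, hE'⟩ := hE
  obtain ⟨n, c, hc⟩ := exists_res_cycles hE' a (fun i hi => hab i (Or.inl hi)) (fun i hi => hex i (by lia))
    (-a).toNat (-1) (by lia) (by lia)
  -- `0 → Z^{-1} → E^{-1} → B → 0`
  let t : E.X (-1) ⟶ E.cycles 0 := E.toCycles (-1) 0
  let S₁ : ShortComplex Y.Modules := ShortComplex.mk (E.iCycles (-1)) (factorThruImage t) (by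
    rw [← cancel_mono (image.ι t), Category.assoc, image.fac, zero_comp, ← cancel_mono (E.iCycles 0),
      Category.assoc, HomologicalComplex.toCycles_i, HomologicalComplex.iCycles_d, zero_comp])
  have hS₁ : S₁.ShortExact := by
    refine { exact := ?_, mono_f := inferInstanceAs (Mono (E.iCycles (-1))),
             epi_g := inferInstanceAs (Epi (factorThruImage t)) }
    rw [ShortComplex.exact_iff_exact_up_to_refinements]
    intro A x hx
    have hx' : x ≫ factorThruImage t = 0 := hx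
    have hx2 : x ≫ E.d (-1) 0 = 0 := by
      rw [← E.toCycles_i (-1) 0, ← Category.assoc]
      have : x ≫ t = 0 := by rw [← image.fac t, ← Category.assoc, hx', zero_comp]
      rw [show x ≫ E.toCycles (-1) 0 = 0 from this, zero_comp]
    refine ⟨A, 𝟙 A, inferInstance, E.liftCycles x 0 (by simp) hx2, ?_⟩
    rw [Category.id_comp]
    exact (E.liftCycles_i _ _ _ _).symm
  have hB : Res (KRR.vbP Y) (n + 1) (image t) _ := Res.succ n S₁ hS₁ (hE' (-1)) c hc
  let S₂ : ShortComplex Y.Modules := ShortComplex.mk (image.ι t) (E.homologyπ 0) (by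
    rw [← cancel_epi (factorThruImage t), ← Category.assoc, image.fac, comp_zero]
    exact E.toCycles_comp_homologyπ (-1) 0)
  have hS₂ : S₂.ShortExact := by
    refine { exact := ?_, mono_f := inferInstanceAs (Mono (image.ι t)),
             epi_g := inferInstanceAs (Epi (E.homologyπ 0)) }
    have h1 : (ShortComplex.mk t (E.homologyπ 0) (E.toCycles_comp_homologyπ (-1) 0)).Exact :=
      ShortComplex.exact_of_g_is_cokernel _ (E.homologyIsCokernel (-1) 0 (by simp))
    refine (ShortComplex.exact_iff_of_epi_of_isIso_of_mono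
      (S₁ := ShortComplex.mk t (E.homologyπ 0) (E.toCycles_comp_homologyπ (-1) 0)) (S₂ := S₂)
      { τ₁ := factorThruImage t, τ₂ := 𝟙 _, τ₃ := 𝟙 _ }).1 h1
  exact ⟨n + 1 + 1, _, Res.succ (n + 1) S₂ hS₂ h0 _ hB⟩

/-- Perfect modules have finite locally free resolutions. -/
theorem hasLFRes_of_isPerfect [CompactSpace Y] [QuasiSeparatedSpace Y] (hY : PerfAux.HasResolutionProperty Y)
    {M : Y.Modules} (hM : DCoh.IsPerfect (DCoh.inD Y M)) : KRR.HasLFRes M := by
  obtain ⟨E, hE, ⟨e⟩⟩ := Groth.Agent.S1036.result Y hY _ hM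
  have key : ∀ i : ℤ, Nonempty (E.homology i ≅
      ((HomologicalComplex.single Y.Modules (ComplexShape.up ℤ) 0).obj M).homology i) := fun i =>
    ⟨((DerivedCategory.homologyFunctorFactors Y.Modules i).app E).symm ≪≫
      (DerivedCategory.homologyFunctor Y.Modules i).mapIso
        (e ≪≫ (DerivedCategory.singleFunctorIsoCompQ Y.Modules 0).app M) ≪≫
      (DerivedCategory.homologyFunctorFactors Y.Modules i).app _⟩
  have hex : ∀ i, i ≠ 0 → IsZero (E.homology i) := fun i hi => by
    obtain ⟨k⟩ := key i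
    exact (HomologicalComplex.isZero_single_obj_homology _ _ _ _ hi).of_iso k
  obtain ⟨n, c, hc⟩ := exists_res_homology hE hex
  obtain ⟨k⟩ := key 0
  exact hasLFRes_of_res (res_iso (k ≪≫ HomologicalComplex.singleObjHomologySelfIso _ _ _) hc)

/-- Short exact sequences of modules and perfectness. -/
theorem isPerfect_three {S : ShortComplex Y.Modules} (hS : S.ShortExact) :
    (DCoh.IsPerfect (DCoh.inD Y S.X₁) → DCoh.IsPerfect (DCoh.inD Y S.X₂) → DCoh.IsPerfect (DCoh.inD Y S.X₃)) ∧
    (DCoh.IsPerfect (DCoh.inD Y S.X₁) → DCoh.IsPerfect (DCoh.inD Y S.X₃) → DCoh.IsPerfect (DCoh.inD Y S.X₂)) ∧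
    (DCoh.IsPerfect (DCoh.inD Y S.X₂) → DCoh.IsPerfect (DCoh.inD Y S.X₃) → DCoh.IsPerfect (DCoh.inD Y S.X₁)) :=
  Groth.Agent.S0887.result _ hS.singleTriangle_distinguished

/-- Modules with a finite locally free resolution are perfect. -/
theorem isPerfect_of_res {F : Y.Modules} {n : ℕ} {c : SGA6.Kvb Y} (h : Res (KRR.vbP Y) n F c) :
    DCoh.IsPerfect (DCoh.inD Y F) := by
  induction h with
  | zero M hM => exact PerfA.PerfLocal.isPerfect_inD_of_isFinLocFree hM
  | succ n S hS h₂ c h ih =>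
    exact (isPerfect_three hS).1 ih (PerfA.PerfLocal.isPerfect_inD_of_isFinLocFree h₂)

theorem isPerfect_of_hasLFRes {F : Y.Modules} (h : KRR.HasLFRes F) : DCoh.IsPerfect (DCoh.inD Y F) := by
  obtain ⟨n, c, hc⟩ := hasLFRes_iff.1 h
  exact isPerfect_of_res hc

theorem hasResolutionProperty (hY : KRR.HasEnoughLocFree Y) : PerfAux.HasResolutionProperty Y :=
  fun M h1 h2 => hY M ⟨h1, h2⟩

/-- `HasLFRes M ↔ M[0] perfect`. -/
theorem hasLFRes_iff_isPerfect [CompactSpace Y] [QuasiSeparatedSpace Y] (hY : KRR.HasEnoughLocFree Y)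
    {M : Y.Modules} : KRR.HasLFRes M ↔ DCoh.IsPerfect (DCoh.inD Y M) :=
  ⟨isPerfect_of_hasLFRes, hasLFRes_of_isPerfect (hasResolutionProperty hY)⟩

section TwoOutOfThree

variable [CompactSpace Y] [QuasiSeparatedSpace Y] (hY : KRR.HasEnoughLocFree Y)
  {S : ShortComplex Y.Modules} (hS : S.ShortExact)

include hY hS

theorem hasLFRes_X₃ (h₁ : KRR.HasLFRes S.X₁) (h₂ : KRR.HasLFRes S.X₂) : KRR.HasLFRes S.X₃ := by
  rw [hasLFRes_iff_isPerfect hY] at h₁ h₂ ⊢
  exact (isPerfect_three hS).1 h₁ h₂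

theorem hasLFRes_X₂ (h₁ : KRR.HasLFRes S.X₁) (h₃ : KRR.HasLFRes S.X₃) : KRR.HasLFRes S.X₂ := by
  rw [hasLFRes_iff_isPerfect hY] at h₁ h₃ ⊢
  exact (isPerfect_three hS).2.1 h₁ h₃

theorem hasLFRes_X₁ (h₂ : KRR.HasLFRes S.X₂) (h₃ : KRR.HasLFRes S.X₃) : KRR.HasLFRes S.X₁ := by
  rw [hasLFRes_iff_isPerfect hY] at h₂ h₃ ⊢
  exact (isPerfect_three hS).2.2 h₂ h₃

end TwoOutOfThree

end Groth.Agent.Krr.H498.ResPerf
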